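import Cfsg.Agent.CosetCert.Basic

/-!
# The abstract group on `x, y, z` with the ten relators of the presentation of HN free of `t`
-/

set_option autoImplicit false

namespace Cfsg.Agent.HNCover

open Cfsg.Agent.CosetCert

/-- The value of a word, read from left to right. -/
def evalw {G : Type*} [Monoid G] (e : ℕ → G) (w : List ℕ) : G := (w.map e).prod

theorem evalw_map {G H : Type*} [Monoid G] [Monoid H] (f : G →* H) (e : ℕ → G) (w : List ℕ) :
    f (evalw e w) = evalw (fun l => f (e l)) w := by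
  simp [evalw, map_list_prod, List.map_map, Function.comp_def]

theorem evalw_inv {G : Type*} [Group G] (e : ℕ → G) : ∀ w : List ℕ,
    pval (fun l => (e l)⁻¹) w = (evalw e w)⁻¹
  | [] => by simp [pval, evalw]
  | l :: w => by
    have ih := evalw_inv e w
    simp only [evalw] at ih
    simp [pval, evalw, ih]

theorem pval_eq_one_iff {G : Type*} [Group G] (e : ℕ → G) (w : List ℕ) :
    pval (fun l => (e l)⁻¹) w = 1 ↔ evalw e w = 1 := by
  rw [evalw_inv, inv_eq_one]

/-- The three generators. -/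
inductive G3
  | x
  | y
  | z
  deriving DecidableEq

/-- The letters `1, ..., 5` are `x, x⁻¹, y, y⁻¹, z`. -/
def free3 : ℕ → FreeGroup G3
  | 1 => FreeGroup.of .x
  | 2 => (FreeGroup.of .x)⁻¹
  | 3 => FreeGroup.of .y
  | 4 => (FreeGroup.of .y)⁻¹
  | 5 => FreeGroup.of .z
  | _ => 1

/-- The ten relators as words. -/
def absWords : List (List ℕ) :=
  [[3, 3, 3, 3, 3, 3], [1, 1, 3, 1, 1, 4], [2, 4, 1, 3, 2, 4, 1, 3, 2, 4, 1, 3],
   [2, 3, 3, 1, 3, 3, 3, 2, 3, 3, 1, 3, 3, 3, 2, 3, 3, 1, 3, 3, 3],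
   [1, 3, 1, 3, 1, 3, 1, 3, 1, 3, 1, 3, 1, 3, 1, 3],
   [1, 3, 1, 3, 3, 3, 1, 3, 1, 3, 3, 3, 1, 3, 1, 3, 3, 3, 1, 3, 1, 3, 3, 3],
   [5, 5], [5, 1, 5, 1],
   [5, 3, 2, 4, 4, 2, 4, 2, 4, 5, 3, 1, 3, 1, 3, 3, 1, 4, 2, 2],
   [5, 4, 2, 4, 2, 4, 4, 4, 5, 3, 3, 3, 1, 3, 1, 3, 1, 4, 2, 4, 2, 4, 4, 4, 5, 3, 3, 3, 1, 3, 1,
    3, 1, 4, 2, 4, 2, 4, 4, 4, 5, 3, 3, 3, 1, 3, 1, 3, 1]]

/-- The relators. -/
def absRels : Set (FreeGroup G3) := {r | ∃ w ∈ absWords, r = evalw free3 w}

/-- The abstract group. -/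
abbrev Abs : Type := PresentedGroup absRels

/-- The value of a letter in the abstract group. -/
def eA (l : ℕ) : Abs := PresentedGroup.mk absRels (free3 l)

theorem eA_rel : ∀ w ∈ absWords, evalw eA w = 1 := by
  intro w hw
  rw [show eA = fun l => PresentedGroup.mk absRels (free3 l) from rfl, ← evalw_map]
  exact PresentedGroup.one_of_mem ⟨w, hw, rfl⟩

/-- Images of the generators. -/
def img3 {G : Type*} (a b c : G) : G3 → G
  | .x => a
  | .y => b
  | .z => c

/-- Letters from three elements. -/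
def let3 {G : Type*} [Group G] (a b c : G) : ℕ → G
  | 1 => a
  | 2 => a⁻¹
  | 3 => b
  | 4 => b⁻¹
  | 5 => c
  | _ => 1

theorem lift_free3 {G : Type*} [Group G] (a b c : G) :
    (fun l => FreeGroup.lift (img3 a b c) (free3 l)) = let3 a b c := by
  funext l
  rcases l with _ | _ | _ | _ | _ | _ | n <;> simp [free3, let3, img3]

/-- The homomorphism given by elements satisfying the relators. -/
def homOf {G : Type*} [Group G] (a b c : G) (h : ∀ w ∈ absWords, evalw (let3 a b c) w = 1) :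
    Abs →* G :=
  PresentedGroup.toGroup (f := img3 a b c) (by
    rintro _ ⟨w, hw, rfl⟩
    rw [evalw_map, lift_free3]
    exact h w hw)

theorem homOf_eA {G : Type*} [Group G] (a b c : G) (h : ∀ w ∈ absWords, evalw (let3 a b c) w = 1)
    (l : ℕ) : homOf a b c h (eA l) = let3 a b c l := by
  rw [← congrFun (lift_free3 a b c) l]
  rfl

theorem eA_eq_let3 : eA = let3 (eA 1) (eA 3) (eA 5) := by
  funext l
  rcases l with _ | _ | _ | _ | _ | _ | n <;> simp [eA, free3, let3]

theorem closure_gens : Subgroup.closure ({eA 1, eA 3, eA 5} : Set Abs) = ⊤ := by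
  rw [eq_top_iff, ← PresentedGroup.closure_range_of absRels, Subgroup.closure_le]
  rintro _ ⟨g, rfl⟩
  cases g <;> exact Subgroup.subset_closure (by simp [eA, free3, PresentedGroup.of])

end Cfsg.Agent.HNCover
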