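import Cfsg.Agent.CosetEnum.Bound
import Cfsg.Agent.CosetCert.Cox

/-!
# A relation derived by a logged enumeration over the trivial subgroup

A certificate without subgroup facts describes points of the regular action. A final path of
certified facts from the point `0` back to itself shows that the word read off is trivial.
-/

set_option autoImplicit false

namespace Cfsg.Agent.HNCover

open Cfsg.Agent.CosetCert Cfsg.Agent.CosetEnum

/-- A certificate for one derived relation: the data of the facts and the final path. -/
structure RelData where
  /-- inverse letters, from the code `0` -/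
  invl : List ℕ
  /-- relator words -/
  words : List (List ℕ)
  /-- rules -/
  rules : PTree
  /-- number of rules -/
  nr : ℕ
  /-- bits of a rule -/
  rbits : ℕ
  /-- number of definitions -/
  nd : ℕ
  /-- number of facts -/
  nf : ℕ
  /-- headers -/
  hdr : PTree
  /-- hops -/
  hop : PTree
  /-- the derived word -/
  target : List ℕ
  /-- the packed derived word -/
  packed : ℕ
  /-- where the final path starts -/
  off : ℕ
  /-- length of the final path -/
  len : ℕ

namespace RelData

variable (R : RelData)

/-- The certificate as an enumeration over the trivial subgroup. -/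
noncomputable def toBound : BoundData where
  invl := R.invl
  words := R.words
  subs := []
  letters := []
  N := 1
  tabs := []
  node := .leaf 0
  edges := []
  rules := R.rules
  nr := R.nr
  rbits := R.rbits
  nd := R.nd
  nf := R.nf
  hdr := R.hdr
  hop := R.hop

/-- All the checks. -/
structure Valid : Prop where
  rules_ok : ∀ i < R.nr, R.toBound.ruleOK (R.rules.get R.rbits i) = true
  facts : ∀ k < R.nf, R.toBound.cert.factOK k = true
  last : R.toBound.cert.walk R.nf 0 R.len R.off 0 R.packed = true
  len_le : R.len ≤ 65536
  unpacks : unpack 65536 R.packed = R.target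

variable {R}

/-- With no letters the certificate is a valid enumeration of one point. -/
theorem toBound_valid (hR : R.Valid) : R.toBound.Valid where
  pos := Nat.one_pos
  node_zero := by
    show (PTree.leaf 0).get 32 0 = 0
    decide +kernel
  subs_unpack := fun j hj => absurd (List.mem_range.1 hj) (Nat.not_lt_zero j)
  rules_ok := hR.rules_ok
  facts := hR.facts
  edge := fun _ _ l hl => by
    change l ∈ ([] : List ℕ) at hl
    simp at hl

/-- **The derived relation.** -/
theorem sound {G : Type*} [Group G] (hR : R.Valid) (g : ℕ → G) (hg0 : g 0 = 1)
    (hginv : ∀ l, g (R.toBound.inv l) = (g l)⁻¹) (hrel : ∀ u ∈ R.words, pval g u = 1) :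
    pval g R.target = 1 := by
  obtain ⟨v, hv0, hv⟩ := cert_sound (act := g) R.toBound.cert hg0 hginv (1 : G) R.nf
    (BoundData.cert_rule (toBound_valid hR) g hg0 hginv hrel) (fun j hj => absurd hj (Nat.not_lt_zero j)) hR.facts
  have h := walk_sound R.toBound.cert hg0 hginv v R.nf 0 hv R.len R.off 0 R.packed 65536
    hR.len_le hR.last
  rw [hR.unpacks, hv0, smul_eq_mul, mul_one] at h
  exact h

end RelData

end Cfsg.Agent.HNCover
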