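import Cfsg.Agent.HNCover.Derived

/-! Machine-generated data and checks. -/

set_option maxRecDepth 100000
set_option Elab.async false

namespace Cfsg.Agent.HNCover

open Cfsg.Agent.CosetCert Cfsg.Agent.CosetEnum

/-- data -/
def relBHdr : PTree := .leaf 0x50000000000000200000100000700000000000000000002000007000006000000000000000000020000060000040000000000000000000100000500000400000000000000000002000004000003000000000000000000020000030000020000000000000000000200000200000100000000000000000001000001000000

/-- data -/
def relBHop : PTree := .leaf 0x10000000e0000000c0000000a0000000900000008000000060000000400000002000000000000000300000005000000070000000b0000000d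

/-- data -/
def relBRules : PTree := .leaf 0x30303030302010102

/-- A derived relation. -/
def relB : RelData where
  invl := [0, 1, 3, 2]
  words := [[1, 1], [2, 2, 2, 2, 2, 2], [1, 3, 1, 2, 1, 3, 1, 2, 1, 3, 1, 2], [1, 2, 2, 1, 2, 2, 2, 1, 2, 2, 1, 2, 2, 2, 1, 2, 2, 1, 2, 2, 2], [1, 2, 1, 2, 1, 2, 1, 2, 1, 2, 1, 2, 1, 2, 1, 2], [1, 2, 1, 2, 2, 2, 1, 2, 1, 2, 2, 2, 1, 2, 1, 2, 2, 2, 1, 2, 1, 2, 2, 2]]
  rules := relBRules
  nr := 1
  rbits := 96
  nd := 7
  nf := 8
  hdr := relBHdr
  hop := relBHop
  target := [1, 2, 2, 2, 1, 1, 2, 2, 2, 1]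
  packed := 4759404650258933875201
  off := 5
  len := 10

theorem relB_fb0 : allB (fun k => Nat.ble relB.nf k || relB.toBound.cert.factOK k) 3 0 = true := by
  decide +kernel

theorem relB_valid : relB.Valid where
  rules_ok := by
    have h : allB (fun i => Nat.ble relB.nr i || relB.toBound.ruleOK (relB.rules.get relB.rbits i)) 1 0 = true := by
      decide +kernel
    exact fun i hi => of_ble_or (allB_spec_zero h (by decide +kernel) hi) hi
  facts := fun k hk => ((below_step (f := fun k => Nat.ble relB.nf k || relB.toBound.cert.factOK k) below_zero (fun i h hi => of_ble_or h hi) relB_fb0) : ∀ i < 0 + 2 ^ 3, i < relB.nf → relB.toBound.cert.factOK i = true)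
    k (lt_of_lt_of_le hk (by decide +kernel)) hk
  last := by decide +kernel
  len_le := by decide +kernel
  unpacks := by decide +kernel

end Cfsg.Agent.HNCover
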