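import Cfsg.Agent.HNCover.Derived

/-! Machine-generated data and checks. -/

set_option maxRecDepth 100000
set_option Elab.async false

namespace Cfsg.Agent.HNCover

open Cfsg.Agent.CosetCert Cfsg.Agent.CosetEnum

/-- data -/
def relE1Hdr : PTree := .leaf 0x1700000000000001000000000017000000000000000000020000170000160000000000000000000200001600001500000000000000000002000015000014000000000000000000010000140000130000000000000000000200001300001200000000000000000001000012000011000000000000000000020000110000100000000000000000000200001000000f0000000000000000000200000f00000e0000000000000000000100000e00000d0000000000000000000200000d00000c0000000000000000000100000c00000b0000000000000000000200000b00000a0000000000000000000200000a000009000000000000000000020000090000080000000000000000000100000800000700000000000000000002000007000006000000000000000000010000060000050000000000000000000200000500000400000000000000000002000004000003000000000000000000020000030000020000000000000000000100000200000100000000000000000002000001000000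

/-- data -/
def relE1Hop : PTree := .leaf 0x2e0000002c0000002a00000028000000260000002400000022000000200000001e0000001c0000001a00000018000000160000001400000012000000100000000e0000000c0000000a000000080000000600000004000000020000000000000001000000030000000500000007000000090000000b0000000d0000000f00000011000000130000001500000017000000190000001b0000001d0000001f00000021000000230000002500000027000000290000002b0000002d

/-- data -/
def relE1Rules : PTree := .leaf 0x30103030301030103030301030103030301030103030302060501

/-- A derived relation. -/
def relE1 : RelData where
  invl := [0, 1, 3, 2]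
  words := [[1, 1], [2, 2, 2, 2, 2, 2], [1, 3, 1, 2, 1, 3, 1, 2, 1, 3, 1, 2], [1, 2, 2, 1, 2, 2, 2, 1, 2, 2, 1, 2, 2, 2, 1, 2, 2, 1, 2, 2, 2], [1, 2, 1, 2, 1, 2, 1, 2, 1, 2, 1, 2, 1, 2, 1, 2], [1, 2, 1, 2, 2, 2, 1, 2, 1, 2, 2, 2, 1, 2, 1, 2, 2, 2, 1, 2, 1, 2, 2, 2]]
  rules := relE1Rules
  nr := 1
  rbits := 224
  nd := 23
  nf := 24
  hdr := relE1Hdr
  hop := relE1Hop
  target := [2, 1, 2, 2, 2, 1, 2, 1, 2, 2, 2, 1, 2, 1, 2, 2, 2, 1, 2, 1, 2, 2, 2, 1]
  packed := 24712241814057725981868729905907283044739690272747815170
  off := 23
  len := 24

theorem relE1_fb0 : allB (fun k => Nat.ble relE1.nf k || relE1.toBound.cert.factOK k) 5 0 = true := by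
  decide +kernel

theorem relE1_valid : relE1.Valid where
  rules_ok := by
    have h : allB (fun i => Nat.ble relE1.nr i || relE1.toBound.ruleOK (relE1.rules.get relE1.rbits i)) 1 0 = true := by
      decide +kernel
    exact fun i hi => of_ble_or (allB_spec_zero h (by decide +kernel) hi) hi
  facts := fun k hk => ((below_step (f := fun k => Nat.ble relE1.nf k || relE1.toBound.cert.factOK k) below_zero (fun i h hi => of_ble_or h hi) relE1_fb0) : ∀ i < 0 + 2 ^ 5, i < relE1.nf → relE1.toBound.cert.factOK i = true)
    k (lt_of_lt_of_le hk (by decide +kernel)) hk
  last := by decide +kernel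
  len_le := by decide +kernel
  unpacks := by decide +kernel

end Cfsg.Agent.HNCover
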