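import Cfsg.Agent.HNCover.RepData

/-! Machine-generated checks. -/

set_option maxRecDepth 100000
set_option Elab.async false

namespace Cfsg.Agent.HNCover

/-- words -/
def words1 : List (List ℕ) := [[5, 3, 2, 4, 4, 2, 4, 2, 4, 5, 3, 1, 3, 1, 3, 3, 1, 4, 2, 2], [5, 6, 5, 6, 5, 6], [1, 3, 1, 3, 1, 3, 1, 3, 1, 3, 1, 3, 1, 3, 1, 3], [5, 5], [1, 1, 3, 1, 1, 4], [3, 4], [4, 3]]

theorem rel1_0 : Same (run mats [5, 3, 2, 4, 4, 2, 4, 2, 4, 5, 3, 1, 3, 1, 3, 3, 1, 4, 2, 2] idCols) idCols := by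
  decide +kernel

theorem rel1_1 : Same (run mats [5, 6, 5, 6, 5, 6] idCols) idCols := by
  decide +kernel

theorem rel1_2 : Same (run mats [1, 3, 1, 3, 1, 3, 1, 3, 1, 3, 1, 3, 1, 3, 1, 3] idCols) idCols := by
  decide +kernel

theorem rel1_3 : Same (run mats [5, 5] idCols) idCols := by
  decide +kernel

theorem rel1_4 : Same (run mats [1, 1, 3, 1, 1, 4] idCols) idCols := by
  decide +kernel

theorem rel1_5 : Same (run mats [3, 4] idCols) idCols := by
  decide +kernel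

theorem rel1_6 : Same (run mats [4, 3] idCols) idCols := by
  decide +kernel

end Cfsg.Agent.HNCover
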