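import Cfsg.Agent.HNCover.RepData

/-! Machine-generated checks. -/

set_option maxRecDepth 100000
set_option Elab.async false

namespace Cfsg.Agent.HNCover

/-- words -/
def words2 : List (List ℕ) := [[1, 3, 1, 3, 3, 3, 1, 3, 1, 3, 3, 3, 1, 3, 1, 3, 3, 3, 1, 3, 1, 3, 3, 3], [2, 3, 3, 1, 3, 3, 3, 2, 3, 3, 1, 3, 3, 3, 2, 3, 3, 1, 3, 3, 3], [2, 4, 1, 3, 2, 4, 1, 3, 2, 4, 1, 3], [5, 1, 5, 1], [7, 4, 6, 3], [6, 6, 6, 6, 6], [1, 2], [6, 7]]

theorem rel2_0 : Same (run mats [1, 3, 1, 3, 3, 3, 1, 3, 1, 3, 3, 3, 1, 3, 1, 3, 3, 3, 1, 3, 1, 3, 3, 3] idCols) idCols := by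
  decide +kernel

theorem rel2_1 : Same (run mats [2, 3, 3, 1, 3, 3, 3, 2, 3, 3, 1, 3, 3, 3, 2, 3, 3, 1, 3, 3, 3] idCols) idCols := by
  decide +kernel

theorem rel2_2 : Same (run mats [2, 4, 1, 3, 2, 4, 1, 3, 2, 4, 1, 3] idCols) idCols := by
  decide +kernel

theorem rel2_3 : Same (run mats [5, 1, 5, 1] idCols) idCols := by
  decide +kernel

theorem rel2_4 : Same (run mats [7, 4, 6, 3] idCols) idCols := by
  decide +kernel

theorem rel2_5 : Same (run mats [6, 6, 6, 6, 6] idCols) idCols := by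
  decide +kernel

theorem rel2_6 : Same (run mats [1, 2] idCols) idCols := by
  decide +kernel

theorem rel2_7 : Same (run mats [6, 7] idCols) idCols := by
  decide +kernel

end Cfsg.Agent.HNCover
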