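import Cfsg.Agent.HNCover.Base
import Cfsg.Agent.HNCover.RepCheck0
import Cfsg.Agent.HNCover.RepCheck1
import Cfsg.Agent.HNCover.RepCheck2
import Cfsg.Prelude.Def_Spor_HN

/-!
# In the presented group HN the square of `x` is not trivial
-/

set_option autoImplicit false
set_option maxRecDepth 100000

namespace Cfsg.Agent.HNCover

open Cfsg.Agent.CosetCert

/-- The first `n` digits are less than 41, the others vanish. -/
noncomputable def smallB (b n : ℕ) : ℕ → Bool :=
  Nat.rec (motive := fun _ => ℕ → Bool) (fun a => Nat.beq a 0)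
    (fun _ ih a => Nat.rec (motive := fun _ => Bool) true
      (fun m _ => Nat.blt (Nat.mod (Nat.succ m) b) 41 && ih (Nat.div (Nat.succ m) b)) a) n

theorem smallB_spec (b : ℕ) : ∀ (n a : ℕ), smallB b n a = true →
    ∀ k, dig b k a < 41 ∧ (n ≤ k → dig b k a = 0)
  | 0, a, h, k => by
    obtain rfl : a = 0 := Nat.eq_of_beq_eq_true h
    simp [dig_zero_right]
  | n + 1, 0, _, k => by simp [dig_zero_right]
  | n + 1, m + 1, h, k => by
    change (Nat.blt ((m + 1) % b) 41 && smallB b n ((m + 1) / b)) = true at h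
    rw [Bool.and_eq_true] at h
    rcases k with _ | k
    · exact ⟨Nat.le_of_ble_eq_true h.1, fun hk => absurd hk (by omega)⟩
    · have := smallB_spec b n _ h.2 k
      exact ⟨this.1, fun hk => this.2 (by omega)⟩

theorem good_of_check {b : ℕ} {A : List (List ℕ)}
    (h : A.all (fun g => g.all (smallB b 134)) = true)
    (hl : A.flatten.length = 133) : Good b A := by
  refine ⟨fun a ha => ?_, hl⟩
  obtain ⟨g, hg, hag⟩ := List.mem_flatten.1 ha
  exact smallB_spec b 134 a (List.all_eq_true.1 (List.all_eq_true.1 h g hg) a hag)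

theorem good_mats (l : ℕ) : Good 256 (mats l) := by
  rcases l with _ | _ | _ | _ | _ | _ | _ | _ | n
  case succ.succ.succ.succ.succ.succ.succ.succ =>
    show Good 256 (mats 0)
    exact good_of_check (by decide +kernel) (by decide +kernel)
  all_goals exact good_of_check (by decide +kernel) (by decide +kernel)

theorem good_id : Good (2 ^ 40) idCols := good_of_check (by decide +kernel) (by decide +kernel)

theorem dig_pow {b : ℕ} (hb : 1 < b) : ∀ i j : ℕ, dig b i (b ^ j) = if i = j then 1 else 0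
  | 0, 0 => by simp [dig, Nat.mod_eq_of_lt hb]
  | 0, j + 1 => by simp [dig, pow_succ]
  | i + 1, 0 => by
    show dig b i (b ^ 0 / b) = _
    rw [pow_zero, Nat.div_eq_of_lt hb, dig_zero_right]
    simp
  | i + 1, j + 1 => by
    show dig b i (b ^ (j + 1) / b) = _
    rw [pow_succ, Nat.mul_div_cancel _ (by omega), dig_pow hb i j]
    simp

theorem strip_id : strip idCols = (List.range 133).map fun j => 1099511627776 ^ j := by decide +kernel

theorem toMat_id : toMat (2 ^ 40) idCols = 1 := by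
  funext i j
  have h1 : idCols.flatten.length = 133 := by decide +kernel
  have hj : (j : ℕ) < idCols.flatten.length := by rw [h1]; exact j.2
  have e : idCols.flatten.getD j 0 / 1099511627776 = 1099511627776 ^ (j : ℕ) := by
    have h := congrArg (fun L : List ℕ => L.getD j 0) strip_id
    simp only [strip] at h
    rw [List.getD_eq_getElem _ _ (by rw [List.length_map]; exact hj), List.getElem_map,
      List.getD_eq_getElem _ _ (by simp), List.getElem_map, List.getElem_range] at h
    rw [List.getD_eq_getElem _ _ hj]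
    exact h
  show ((dig (2 ^ 40) i (idCols.flatten.getD j 0 / 2 ^ 40) : ℕ) : ZMod 41) = _
  rw [show (2 : ℕ) ^ 40 = 1099511627776 from rfl, e, dig_pow (by norm_num), Matrix.one_apply]
  simp only [Fin.ext_iff, Nat.cast_ite, Nat.cast_one, Nat.cast_zero]

/-- The matrix of a letter. -/
def mat (l : ℕ) : Matrix (Fin 133) (Fin 133) (ZMod 41) := toMat 256 (mats l)

theorem mat_rel {w : List ℕ} (h : Same (run mats w idCols) idCols) : evalw mat w = 1 := by
  have h1 := run_spec mats good_mats w idCols good_id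
  rw [toMat_of_same h, toMat_id, one_mul] at h1
  exact h1.symm

theorem mat_pair {a b : ℕ} (h : Same (run mats [a, b] idCols) idCols) : mat a * mat b = 1 := by
  simpa [evalw] using mat_rel h

/-- The group of invertible matrices. -/
abbrev GLn : Type := (Matrix (Fin 133) (Fin 133) (ZMod 41))ˣ

/-- The images of the letters. -/
def uni : ℕ → GLn
  | 1 => ⟨mat 1, mat 2, mat_pair rel2_6, mat_pair rel0_3⟩
  | 2 => ⟨mat 2, mat 1, mat_pair rel0_3, mat_pair rel2_6⟩
  | 3 => ⟨mat 3, mat 4, mat_pair rel1_5, mat_pair rel1_6⟩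
  | 4 => ⟨mat 4, mat 3, mat_pair rel1_6, mat_pair rel1_5⟩
  | 5 => ⟨mat 5, mat 5, mat_pair rel1_3, mat_pair rel1_3⟩
  | 6 => ⟨mat 6, mat 7, mat_pair rel2_7, mat_pair rel0_4⟩
  | 7 => ⟨mat 7, mat 6, mat_pair rel0_4, mat_pair rel2_7⟩
  | _ => 1

theorem uni_rel {w : List ℕ} (hl : ∀ l ∈ w, 1 ≤ l ∧ l ≤ 7) (h : Same (run mats w idCols) idCols) :
    evalw uni w = 1 := by
  apply Units.ext
  rw [Units.val_one, ← mat_rel h]
  show (Units.coeHom _) (evalw uni w) = _
  rw [evalw_map]
  refine congrArg List.prod (List.map_congr_left fun l hm => ?_)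
  obtain ⟨h1, h2⟩ := hl l hm
  interval_cases l <;> rfl

/-- The images of the generators of HN. -/
def repGen : Spor.HN.Gen → GLn
  | .x => uni 1
  | .y => uni 3
  | .z => uni 5
  | .t => uni 6

theorem repGen_rel : ∀ r ∈ Spor.coxRelators Spor.HN.edges ∪ {r | r ∈ Spor.HN.extra},
    FreeGroup.lift repGen r = 1 := by
  have e2 : uni 2 = (uni 1)⁻¹ := rfl
  have e4 : uni 4 = (uni 3)⁻¹ := rfl
  have e7 : uni 7 = (uni 6)⁻¹ := rfl
  have ez : (uni 5)⁻¹ = uni 5 := rfl
  rintro r (⟨a, ha, -⟩ | hr)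
  · simp [Spor.coxNodes, Spor.HN.edges] at ha
  simp only [Spor.HN.extra, List.mem_cons, List.not_mem_nil, or_false, Set.mem_setOf_eq] at hr
  rcases hr with rfl | rfl | rfl | rfl | rfl | rfl | rfl | rfl | rfl | rfl | rfl | rfl | rfl | rfl
  · have h := uni_rel (w := [3, 3, 3, 3, 3, 3]) (by decide) rel0_1
    simpa [evalw, repGen, e2, e4, e7, ez, pow_succ, mul_assoc] using h
  · have h := uni_rel (w := [1, 1, 3, 1, 1, 4]) (by decide) rel1_4
    simpa [evalw, repGen, e2, e4, e7, ez, pow_succ, mul_assoc] using h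
  · have h := uni_rel (w := [2, 4, 1, 3, 2, 4, 1, 3, 2, 4, 1, 3]) (by decide) rel2_2
    simpa [evalw, repGen, e2, e4, e7, ez, pow_succ, mul_assoc] using h
  · have h := uni_rel (w := [2, 3, 3, 1, 3, 3, 3, 2, 3, 3, 1, 3, 3, 3, 2, 3, 3, 1, 3, 3, 3]) (by decide) rel2_1
    simpa [evalw, repGen, e2, e4, e7, ez, pow_succ, mul_assoc] using h
  · have h := uni_rel (w := [1, 3, 1, 3, 1, 3, 1, 3, 1, 3, 1, 3, 1, 3, 1, 3]) (by decide) rel1_2
    simpa [evalw, repGen, e2, e4, e7, ez, pow_succ, mul_assoc] using h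
  · have h := uni_rel (w := [1, 3, 1, 3, 3, 3, 1, 3, 1, 3, 3, 3, 1, 3, 1, 3, 3, 3, 1, 3, 1, 3, 3, 3]) (by decide) rel2_0
    simpa [evalw, repGen, e2, e4, e7, ez, pow_succ, mul_assoc] using h
  · have h := uni_rel (w := [5, 5]) (by decide) rel1_3
    simpa [evalw, repGen, e2, e4, e7, ez, pow_succ, mul_assoc] using h
  · have h := uni_rel (w := [5, 1, 5, 1]) (by decide) rel2_3
    simpa [evalw, repGen, e2, e4, e7, ez, pow_succ, mul_assoc] using h
  · have h := uni_rel (w := [5, 3, 2, 4, 4, 2, 4, 2, 4, 5, 3, 1, 3, 1, 3, 3, 1, 4, 2, 2]) (by decide) rel1_0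
    simpa [evalw, repGen, e2, e4, e7, ez, pow_succ, mul_assoc] using h
  · have h := uni_rel (w := [5, 4, 2, 4, 2, 4, 4, 4, 5, 3, 3, 3, 1, 3, 1, 3, 1, 4, 2, 4, 2, 4, 4, 4, 5, 3, 3, 3, 1, 3, 1, 3, 1, 4, 2, 4, 2, 4, 4, 4, 5, 3, 3, 3, 1, 3, 1, 3, 1]) (by decide) rel0_0
    simpa [evalw, repGen, e2, e4, e7, ez, pow_succ, mul_assoc] using h
  · have h := uni_rel (w := [6, 6, 6, 6, 6]) (by decide) rel2_5
    simpa [evalw, repGen, e2, e4, e7, ez, pow_succ, mul_assoc] using h
  · have h := uni_rel (w := [2, 6, 1, 6, 6]) (by decide) rel0_2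
    simpa [evalw, repGen, e2, e4, e7, ez, pow_succ, mul_assoc] using h
  · have h := uni_rel (w := [7, 4, 6, 3]) (by decide) rel2_4
    simpa [evalw, repGen, e2, e4, e7, ez, pow_succ, mul_assoc] using h
  · have h := uni_rel (w := [5, 6, 5, 6, 5, 6]) (by decide) rel1_1
    simpa [evalw, repGen, e2, e4, e7, ez, pow_succ, mul_assoc] using h

/-- The representation. -/
def repHom : Spor.HN →* GLn := PresentedGroup.toGroup repGen_rel

theorem sq_x_ne_one :
    (PresentedGroup.mk (Spor.coxRelators Spor.HN.edges ∪ {r | r ∈ Spor.HN.extra})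
      (Spor.HN.x ^ 2) : Spor.HN) ≠ 1 := by
  intro h
  have h1 := congrArg repHom h
  rw [map_one] at h1
  have h2 : FreeGroup.lift repGen (Spor.HN.x ^ 2) = 1 := h1
  rw [map_pow, show FreeGroup.lift repGen Spor.HN.x = uni 1 from FreeGroup.lift_apply_of] at h2
  have h3 := congrArg Units.val h2
  rw [Units.val_pow_eq_pow_val, Units.val_one, pow_two] at h3
  have h4 := run_spec mats good_mats [1, 1] idCols good_id
  rw [toMat_id, one_mul] at h4
  have h5 : toMat (2 ^ 40) (run mats [1, 1] idCols) = 1 := by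
    rw [h4, ← h3]
    simp [mat, uni]
  have h6 := congrFun (congrFun h5 77) 77
  have h7 : dig (2 ^ 40) 78 ((run mats [1, 1] idCols).flatten.getD 77 0) = 40 := by decide +kernel
  rw [Matrix.one_apply_eq] at h6
  change ((dig (2 ^ 40) 78 ((run mats [1, 1] idCols).flatten.getD 77 0) : ℕ) : ZMod 41) = 1 at h6
  rw [h7] at h6
  exact absurd h6 (by decide)

end Cfsg.Agent.HNCover
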