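import Mathlib

/-!
# Products of matrices over the field with 41 elements

One packed natural number for a column; the columns are grouped in short lists. Reduction modulo 41
is done on all digits at once.
-/

set_option autoImplicit false

namespace Cfsg.Agent.HNCover

/-- Digit `i` of `X` in base `b`. -/
def dig (b : ℕ) : ℕ → ℕ → ℕ
  | 0, X => X % b
  | i + 1, X => dig b i (X / b)

/-- A digit of `133` places, 16 bits in each. -/
def maskN : ℕ → ℕ
  | 0 => 0
  | n + 1 => 65535 + 1099511627776 * maskN n

/-- The mask. -/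
def mask : ℕ := maskN 134

/-- Reduce every digit modulo 41. -/
noncomputable def red (X : ℕ) : ℕ :=
  Nat.sub X (Nat.mul 41 (Nat.land (Nat.shiftRight (Nat.mul 409201 X) 24) mask))

/-- The combination of the packed columns `A` with the coefficients packed in `c`. -/
noncomputable def comb (A : List ℕ) : ℕ → ℕ :=
  List.rec (motive := fun _ => ℕ → ℕ) (fun _ => 0)
    (fun a _ ih c => Nat.rec (motive := fun _ => ℕ) 0
      (fun m _ => Nat.add (Nat.mul (Nat.mod (Nat.succ m) 256) a) (ih (Nat.div (Nat.succ m) 256))) c) A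

theorem comb_zero_right : ∀ A, comb A 0 = 0
  | [] => rfl
  | _ :: _ => rfl

theorem comb_cons : ∀ (a : ℕ) (A : List ℕ) (c : ℕ),
    comb (a :: A) c = (c % 256) * a + comb A (c / 256)
  | a, A, 0 => by show (0 : ℕ) = _; simp [comb_zero_right]
  | _, _, _ + 1 => rfl

/-- The combination, group by group. -/
noncomputable def combs (A : List (List ℕ)) : ℕ → ℕ :=
  List.rec (motive := fun _ => ℕ → ℕ) (fun _ => 0)
    (fun a _ ih c => Nat.rec (motive := fun _ => ℕ) 0
      (fun m _ => Nat.add (comb a (Nat.mod (Nat.succ m) (256 ^ a.length)))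
        (ih (Nat.div (Nat.succ m) (256 ^ a.length)))) c) A

/-- Right multiplication by a matrix given by its packed columns. -/
noncomputable def step (A G : List (List ℕ)) : List (List ℕ) :=
  G.map fun g => g.map fun c => red (combs A (Nat.div c 256))

/-- Hand a list whose entries are evaluated to a continuation. -/
noncomputable def force {α : Type} (l : List ℕ) : (List ℕ → α) → α :=
  List.rec (motive := fun _ => (List ℕ → α) → α) (fun k => k [])
    (fun a _ ih k => Nat.rec (motive := fun _ => α) (ih fun r => k (0 :: r))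
      (fun m _ => ih fun r => k (Nat.succ m :: r)) a) l

theorem force_eq {α : Type} : ∀ (l : List ℕ) (k : List ℕ → α), force l k = k l
  | [], _ => rfl
  | 0 :: l, k => by show force l _ = _; exact force_eq l _
  | (m + 1) :: l, k => by show force l _ = _; exact force_eq l _

/-- Hand grouped columns whose entries are evaluated to a continuation. -/
noncomputable def forces {α : Type} (L : List (List ℕ)) : (List (List ℕ) → α) → α :=
  List.rec (motive := fun _ => (List (List ℕ) → α) → α) (fun k => k [])
    (fun a _ ih k => force a fun a' => ih fun r => k (a' :: r)) L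

theorem forces_eq {α : Type} : ∀ (L : List (List ℕ)) (k : List (List ℕ) → α), forces L k = k L
  | [], _ => rfl
  | a :: L, k => by
    show force a _ = _
    rw [force_eq]
    exact forces_eq L _

/-- The columns of the identity matrix. -/
def idCols : List (List ℕ) :=
  (List.range 11).map fun k => (List.range (if k = 10 then 13 else 12)).map fun j =>
    (12 * k + j) % 40 + 1 + 1099511627776 ^ (12 * k + j + 1)

/-- The columns without their first digit. -/
def strip (A : List (List ℕ)) : List ℕ := A.flatten.map fun c => c / 1099511627776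

/-- Two lists of columns give the same matrix. -/
abbrev Same (A B : List (List ℕ)) : Prop := strip A = strip B

/-- Follow a word. -/
noncomputable def run (Ms : ℕ → List (List ℕ)) (w : List ℕ) : List (List ℕ) → List (List ℕ) :=
  List.rec (motive := fun _ => List (List ℕ) → List (List ℕ)) (fun A => A)
    (fun l _ ih A => forces (step A (Ms l)) ih) w

theorem run_cons (Ms : ℕ → List (List ℕ)) (l : ℕ) (w : List ℕ) (A : List (List ℕ)) :
    run Ms (l :: w) A = run Ms w (step A (Ms l)) := forces_eq _ _

theorem dig_zero_right (b : ℕ) : ∀ i, dig b i 0 = 0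
  | 0 => Nat.zero_mod b
  | i + 1 => by rw [dig, Nat.zero_div, dig_zero_right b i]

theorem dig_add_mul {b : ℕ} (hb : 0 < b) : ∀ (i a x c : ℕ),
    (∀ k, dig b k a + c * dig b k x < b) → dig b i (a + c * x) = dig b i a + c * dig b i x := by
  have split : ∀ a x c, a % b + c * (x % b) < b →
      (a + c * x) % b = a % b + c * (x % b) ∧ (a + c * x) / b = a / b + c * (x / b) := by
    intro a x c h
    have e : a + c * x = (a % b + c * (x % b)) + b * (a / b + c * (x / b)) := by
      conv_lhs => rw [← Nat.mod_add_div a b, ← Nat.mod_add_div x b]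
      ring
    refine ⟨?_, ?_⟩
    · rw [e, Nat.add_mul_mod_self_left, Nat.mod_eq_of_lt h]
    · rw [e, Nat.add_mul_div_left _ _ hb, Nat.div_eq_of_lt h, Nat.zero_add]
  intro i
  induction i with
  | zero => intro a x c h; exact (split a x c (h 0)).1
  | succ i ih =>
    intro a x c h
    show dig b i ((a + c * x) / b) = dig b i (a / b) + c * dig b i (x / b)
    rw [(split a x c (h 0)).2]
    exact ih _ _ _ fun k => h (k + 1)

theorem dig_sub_mul {b : ℕ} (hb : 1 < b) (c : ℕ) : ∀ (x a : ℕ),
    (∀ k, c * dig b k x ≤ dig b k a) →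
      c * x ≤ a ∧ ∀ i, dig b i (a - c * x) = dig b i a - c * dig b i x := by
  intro x
  induction x using Nat.strong_induction_on with
  | _ x ih =>
    intro a h
    by_cases hx : x = 0
    · subst hx
      exact ⟨by simp, fun i => by simp [dig_zero_right]⟩
    obtain ⟨h1, h2⟩ := ih (x / b) (Nat.div_lt_self (by omega) hb) (a / b) fun k => h (k + 1)
    have h0 : c * (x % b) ≤ a % b := h 0
    have e : c * x = c * (x % b) + b * (c * (x / b)) := by
      conv_lhs => rw [← Nat.mod_add_div x b]
      ring
    have ea := Nat.mod_add_div a b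
    have hmul : b * (c * (x / b)) ≤ b * (a / b) := Nat.mul_le_mul_left _ h1
    have esub : a - c * x = (a % b - c * (x % b)) + b * (a / b - c * (x / b)) := by
      rw [Nat.mul_sub b]
      omega
    have hlt : a % b - c * (x % b) < b :=
      lt_of_le_of_lt (Nat.sub_le _ _) (Nat.mod_lt _ (by omega))
    refine ⟨by omega, fun i => ?_⟩
    cases i with
    | zero =>
      show (a - c * x) % b = _
      rw [esub, Nat.add_mul_mod_self_left, Nat.mod_eq_of_lt hlt]
      rfl
    | succ i =>
      show dig b i ((a - c * x) / b) = _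
      rw [esub, Nat.add_mul_div_left _ _ (by omega), Nat.div_eq_of_lt hlt, Nat.zero_add, h2 i]
      rfl

theorem dig_land : ∀ (i A M : ℕ),
    dig (2 ^ 40) i (A &&& M) = dig (2 ^ 40) i A &&& dig (2 ^ 40) i M
  | 0, A, M => Nat.and_mod_two_pow
  | i + 1, A, M => by
    show dig (2 ^ 40) i ((A &&& M) / 2 ^ 40) =
      dig (2 ^ 40) i (A / 2 ^ 40) &&& dig (2 ^ 40) i (M / 2 ^ 40)
    rw [← dig_land i, ← Nat.shiftRight_eq_div_pow, ← Nat.shiftRight_eq_div_pow,
      ← Nat.shiftRight_eq_div_pow, Nat.shiftRight_and_distrib]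

theorem dig_shift : ∀ (i X : ℕ),
    dig (2 ^ 40) i (X / 2 ^ 24) % 65536 = dig (2 ^ 40) i X / 2 ^ 24 % 65536
  | 0, X => by simp only [dig]; omega
  | i + 1, X => by
    show dig (2 ^ 40) i (X / 2 ^ 24 / 2 ^ 40) % 65536 = dig (2 ^ 40) i (X / 2 ^ 40) / 2 ^ 24 % 65536
    rw [Nat.div_right_comm]
    exact dig_shift i _

theorem dig_maskN : ∀ (n i : ℕ), dig (2 ^ 40) i (maskN n) = if i < n then 65535 else 0
  | 0, i => by simp [maskN, dig_zero_right]
  | n + 1, 0 => by simp only [dig, maskN, Nat.succ_pos, if_true]; omega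
  | n + 1, i + 1 => by
    show dig (2 ^ 40) i ((65535 + 1099511627776 * maskN n) / 2 ^ 40) = _
    rw [show (65535 + 1099511627776 * maskN n) / 2 ^ 40 = maskN n by omega, dig_maskN n i]
    simp only [Nat.add_lt_add_iff_right]

theorem dig_red (X : ℕ) (hX : ∀ k, dig (2 ^ 40) k X ≤ 212800)
    (hX' : ∀ k, 134 ≤ k → dig (2 ^ 40) k X = 0) (i : ℕ) :
    dig (2 ^ 40) i (red X) = dig (2 ^ 40) i X % 41 := by
  have hm : ∀ k, dig (2 ^ 40) k (409201 * X) = 409201 * dig (2 ^ 40) k X := fun k => by
    have h := dig_add_mul (b := 2 ^ 40) (by positivity) k 0 X 409201 fun j => by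
      rw [dig_zero_right]
      have := hX j
      omega
    simpa [dig_zero_right] using h
  have hq : ∀ k, dig (2 ^ 40) k (((409201 * X) >>> 24) &&& mask) = dig (2 ^ 40) k X / 41 := fun k => by
    have hb := hX k
    rw [dig_land, mask, dig_maskN]
    split
    · rw [show (65535 : ℕ) = 2 ^ 16 - 1 from rfl, Nat.and_two_pow_sub_one_eq_mod,
        Nat.shiftRight_eq_div_pow, show (2 : ℕ) ^ 16 = 65536 from rfl, dig_shift, hm]
      have e : 409201 * dig (2 ^ 40) k X = 2 ^ 24 * (dig (2 ^ 40) k X / 41) +
          (25 * (dig (2 ^ 40) k X / 41) + 409201 * (dig (2 ^ 40) k X % 41)) := by omega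
      have hlt : 25 * (dig (2 ^ 40) k X / 41) + 409201 * (dig (2 ^ 40) k X % 41) < 2 ^ 24 := by omega
      rw [e, Nat.mul_add_div (by norm_num), Nat.div_eq_of_lt hlt, Nat.add_zero,
        Nat.mod_eq_of_lt (by omega)]
    · rw [Nat.and_zero, hX' k (by omega)]
  have h := (dig_sub_mul (b := 2 ^ 40) (by norm_num) 41 (((409201 * X) >>> 24) &&& mask) X fun k => by
    rw [hq]; omega).2 i
  show dig (2 ^ 40) i (X - 41 * (((409201 * X) >>> 24) &&& mask)) = _
  rw [h, hq]
  omega

/-- All digits are reduced. -/
def Small (b : ℕ) (A : List ℕ) : Prop :=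
  ∀ a ∈ A, ∀ k, dig b k a < 41 ∧ (134 ≤ k → dig b k a = 0)

theorem comb_append : ∀ (A B : List ℕ) (c : ℕ),
    comb (A ++ B) c = comb A (c % 256 ^ A.length) + comb B (c / 256 ^ A.length)
  | [], B, c => by simp [Nat.mod_one, comb_zero_right]
  | a :: A, B, c => by
    rw [List.cons_append, comb_cons, comb_cons, comb_append A B, List.length_cons, pow_succ',
      Nat.mod_mul_right_mod, Nat.mod_mul_right_div_self, Nat.div_div_eq_div_mul]
    ring

theorem combs_zero_right : ∀ A, combs A 0 = 0
  | [] => rfl
  | _ :: _ => rfl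

theorem combs_eq : ∀ (A : List (List ℕ)) (c : ℕ), combs A c = comb A.flatten c
  | [], c => rfl
  | a :: A, 0 => by rw [comb_zero_right]; rfl
  | a :: A, c + 1 => by
    rw [List.flatten_cons, comb_append, ← combs_eq A]
    rfl

theorem dig_comb : ∀ (A : List ℕ), Small (2 ^ 40) A → A.length ≤ 133 → ∀ c : ℕ,
    (∀ k, dig 256 k c < 41) → ∀ i, dig (2 ^ 40) i (comb A c) =
      ∑ j ∈ Finset.range A.length, dig 256 j c * dig (2 ^ 40) i (A.getD j 0) ∧
      dig (2 ^ 40) i (comb A c) ≤ A.length * 1600 ∧
      (134 ≤ i → dig (2 ^ 40) i (comb A c) = 0) := by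
  intro A
  induction A with
  | nil => intro _ _ c _ i; simp [comb, dig_zero_right]
  | cons a A ih =>
    intro hA hlen c hc i
    have hlen' : A.length ≤ 133 := by simp at hlen; omega
    have ih' := ih (fun x hx => hA x (List.mem_cons_of_mem _ hx)) hlen' (c / 256) fun k => hc (k + 1)
    have h0 : c % 256 ≤ 40 := Nat.le_of_lt_succ (hc 0)
    have hb : ∀ k, (c % 256) * dig (2 ^ 40) k a ≤ 1600 := fun k =>
      le_trans (Nat.mul_le_mul h0 (Nat.le_of_lt_succ (hA a List.mem_cons_self k).1)) (le_refl _)
    have hd : dig (2 ^ 40) i (comb (a :: A) c) =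
        dig (2 ^ 40) i (comb A (c / 256)) + (c % 256) * dig (2 ^ 40) i a := by
      rw [comb_cons, add_comm]
      refine dig_add_mul (by norm_num) i _ _ _ fun k => ?_
      have := (ih' k).2.1
      have := hb k
      have : A.length * 1600 ≤ 212800 := by omega
      omega
    refine ⟨?_, ?_, fun hi => ?_⟩
    · rw [hd, (ih' i).1, List.length_cons, Finset.sum_range_succ']
      rfl
    · rw [hd, List.length_cons]
      have := (ih' i).2.1
      have := hb i
      omega
    · rw [hd, (ih' i).2.2 hi, (hA a List.mem_cons_self i).2 hi, mul_zero, add_zero]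

/-- The matrix with packed columns `A`. -/
def toMat (b : ℕ) (A : List (List ℕ)) : Matrix (Fin 133) (Fin 133) (ZMod 41) :=
  Matrix.of fun i j => ((dig b (i + 1) (A.flatten.getD j 0) : ℕ) : ZMod 41)

theorem flatten_step (A G : List (List ℕ)) :
    (step A G).flatten = G.flatten.map fun c => red (comb A.flatten (c / 256)) := by
  simp only [step, List.map_flatten, combs_eq]
  rfl

/-- Admissible data. -/
def Good (b : ℕ) (A : List (List ℕ)) : Prop := Small b A.flatten ∧ A.flatten.length = 133

theorem good_step {A G : List (List ℕ)} (hA : Good (2 ^ 40) A) (hG : Good 256 G) :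
    Good (2 ^ 40) (step A G) := by
  rw [Good, flatten_step, List.length_map]
  refine ⟨fun a ha k => ?_, hG.2⟩
  obtain ⟨c, hc, rfl⟩ := List.mem_map.1 ha
  have h := dig_comb A.flatten hA.1 hA.2.le (c / 256) fun k => (hG.1 c hc (k + 1)).1
  have hb : ∀ k, dig (2 ^ 40) k (comb A.flatten (c / 256)) ≤ 212800 := fun k => by
    have := (h k).2.1
    rw [hA.2] at this
    omega
  rw [dig_red _ hb (fun k hk => (h k).2.2 hk)]
  exact ⟨Nat.mod_lt _ (by norm_num), fun hk => by rw [(h k).2.2 hk, Nat.zero_mod]⟩

theorem toMat_step {A G : List (List ℕ)} (hA : Good (2 ^ 40) A) (hG : Good 256 G) :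
    toMat (2 ^ 40) (step A G) = toMat (2 ^ 40) A * toMat 256 G := by
  funext i j
  rw [Matrix.mul_apply]
  have hj : (j : ℕ) < G.flatten.length := by rw [hG.2]; exact j.2
  have e : (step A G).flatten.getD j 0 = red (comb A.flatten (G.flatten.getD j 0 / 256)) := by
    rw [flatten_step, List.getD_eq_getElem _ _ (by rw [List.length_map]; exact hj), List.getElem_map,
      List.getD_eq_getElem _ _ hj]
  have hc : ∀ k, dig 256 k (G.flatten.getD j 0 / 256) < 41 := fun k => by
    rw [List.getD_eq_getElem _ _ hj]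
    exact (hG.1 _ (List.getElem_mem hj) (k + 1)).1
  have h := dig_comb A.flatten hA.1 hA.2.le _ hc
  have hb : ∀ k, dig (2 ^ 40) k (comb A.flatten (G.flatten.getD j 0 / 256)) ≤ 212800 := fun k => by
    have := (h k).2.1
    rw [hA.2] at this
    omega
  show ((dig (2 ^ 40) (i + 1) ((step A G).flatten.getD j 0) : ℕ) : ZMod 41) = _
  rw [e, dig_red _ hb (fun k hk => (h k).2.2 hk), ZMod.natCast_mod, (h (i + 1)).1, hA.2, Nat.cast_sum,
    Finset.sum_range]
  refine Finset.sum_congr rfl fun k _ => ?_
  simp only [toMat, Matrix.of_apply, Nat.cast_mul]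
  rw [mul_comm]
  rfl

theorem run_spec (Ms : ℕ → List (List ℕ)) (hM : ∀ l, Good 256 (Ms l)) :
    ∀ (w : List ℕ) (A : List (List ℕ)), Good (2 ^ 40) A →
      toMat (2 ^ 40) (run Ms w A) = toMat (2 ^ 40) A * (w.map fun l => toMat 256 (Ms l)).prod
  | [], A, _ => by simp [run]
  | l :: w, A, hA => by
    rw [run_cons, run_spec Ms hM w _ (good_step hA (hM l)), toMat_step hA (hM l), List.map_cons,
      List.prod_cons, mul_assoc]

theorem toMat_of_same {A B : List (List ℕ)} (h : Same A B) :
    toMat (2 ^ 40) A = toMat (2 ^ 40) B := by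
  funext i j
  have e : ∀ C : List (List ℕ), (strip C).getD j 0 = C.flatten.getD j 0 / 1099511627776 := fun C => by
    rcases Nat.lt_or_ge (j : ℕ) C.flatten.length with hj | hj
    · rw [strip, List.getD_eq_getElem _ _ (by rw [List.length_map]; exact hj), List.getElem_map,
        List.getD_eq_getElem _ _ hj]
    · rw [strip, List.getD_eq_default _ _ (by rw [List.length_map]; exact hj),
        List.getD_eq_default _ _ hj]
  show ((dig (2 ^ 40) i (A.flatten.getD j 0 / 1099511627776) : ℕ) : ZMod 41) = _
  rw [← e A, h, e B]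
  rfl

end Cfsg.Agent.HNCover
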