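import Cfsg.Agent.HNCover.Base
import Cfsg.Agent.HNCover.RelB
import Cfsg.Agent.HNCover.RelE1
import Cfsg.Agent.HNCover.RelE2
import Cfsg.Agent.HNCover.RelW5
import Cfsg.Agent.HNCover.RelT5
import Cfsg.Agent.HNCover.RelW11
import Cfsg.Agent.HNCover.RelT11
import Cfsg.Agent.HNCover.RelF1
import Cfsg.Agent.HNCover.RelF2
import Cfsg.Agent.HNCover.RelD0
import Cfsg.Agent.HNCover.RelX4
import Cfsg.Agent.HNCover.BoundU
import Cfsg.Agent.HNCover.BoundH
import Cfsg.Agent.HNCover.BoundV
import Cfsg.Agent.HNCover.BoundQ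
import Cfsg.Agent.CosetEnum.SubRealize

/-!
# The abstract group has order at most 532224000
-/

set_option autoImplicit false
set_option maxRecDepth 100000

namespace Cfsg.Agent.HNCover

open Cfsg.Agent.CosetCert Cfsg.Agent.CosetEnum

/-- Inverse values of the letters of the abstract group. -/
def gA (l : ℕ) : Abs := (eA l)⁻¹

theorem absWords_eq : relX4.words = absWords := by decide +kernel

theorem x_pow_four : eA 1 ^ 4 = 1 := by
  have hinv : ∀ l, gA (relX4.toBound.inv l) = (gA l)⁻¹ := by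
    intro l
    rcases l with _ | _ | _ | _ | _ | _ | n
    · show (eA 0)⁻¹ = _
      simp [gA, eA, free3]
    · show (eA 2)⁻¹ = _
      simp [gA, eA, free3]
    · show (eA 1)⁻¹ = _
      simp [gA, eA, free3]
    · show (eA 4)⁻¹ = _
      simp [gA, eA, free3]
    · show (eA 3)⁻¹ = _
      simp [gA, eA, free3]
    · show (eA 5)⁻¹ = _
      have h := eA_rel [5, 5] (by decide)
      simp [evalw] at h
      simpa [gA] using inv_eq_of_mul_eq_one_right h
    · show (eA 0)⁻¹ = _
      simp [gA, eA, free3]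
  have h := RelData.sound relX4_valid gA (by simp [gA, eA, free3]) hinv fun u hu =>
    (pval_eq_one_iff eA u).2 (eA_rel u (absWords_eq ▸ hu))
  rw [show relX4.target = [1, 1, 1, 1] from rfl] at h
  have h' := (pval_eq_one_iff eA [1, 1, 1, 1]).1 h
  simpa [evalw, pow_succ, mul_assoc] using h'

/-- The subgroup generated by the square of `x`. -/
def sqX : Subgroup Abs := Subgroup.zpowers (eA 1 ^ 2)

theorem conj_sq : eA 3 * eA 1 ^ 2 * (eA 3)⁻¹ = (eA 1 ^ 2)⁻¹ ∧
    eA 5 * eA 1 ^ 2 * (eA 5)⁻¹ = (eA 1 ^ 2)⁻¹ := by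
  constructor
  · have h := eA_rel [1, 1, 3, 1, 1, 4] (by decide)
    have e4 : eA 4 = (eA 3)⁻¹ := by simp [eA, free3]
    simp [evalw, e4, ← mul_assoc] at h
    apply eq_inv_of_mul_eq_one_right
    simpa [pow_two, mul_assoc] using h
  · have h1 := eA_rel [5, 5] (by decide)
    have h2 := eA_rel [5, 1, 5, 1] (by decide)
    simp [evalw] at h1 h2
    have ez : (eA 5)⁻¹ = eA 5 := inv_eq_of_mul_eq_one_right h1
    have e : eA 5 * eA 1 * (eA 5)⁻¹ = (eA 1)⁻¹ := by
      rw [ez]
      apply eq_inv_of_mul_eq_one_left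
      simpa [mul_assoc] using h2
    rw [← inv_pow, ← e, conj_pow]

theorem sqX_normal : sqX.Normal := by
  rw [← Subgroup.normalizer_eq_top_iff, eq_top_iff, ← closure_gens, Subgroup.closure_le]
  have key : ∀ a : Abs, (a * eA 1 ^ 2 * a⁻¹ = eA 1 ^ 2 ∨ a * eA 1 ^ 2 * a⁻¹ = (eA 1 ^ 2)⁻¹) →
      a ∈ Subgroup.normalizer (sqX : Set Abs) := by
    intro a ha
    have hmap : sqX.map (MulAut.conj a).toMonoidHom = sqX := by
      rw [sqX, MonoidHom.map_zpowers]
      show Subgroup.zpowers (a * eA 1 ^ 2 * a⁻¹) = _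
      rcases ha with h | h <;> rw [h]
      exact Subgroup.zpowers_inv
    rw [Subgroup.mem_normalizer_iff]
    intro m
    constructor
    · intro hm
      show a * m * a⁻¹ ∈ sqX
      rw [← hmap]
      exact ⟨m, hm, rfl⟩
    · intro hm
      rw [← hmap] at hm
      obtain ⟨m', hm', e⟩ := hm
      have : m' = m := (MulAut.conj a).injective (by simpa using e)
      exact this ▸ hm'
  intro a ha
  simp only [Set.mem_insert_iff, Set.mem_singleton_iff] at ha
  rcases ha with rfl | rfl | rfl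
  · exact key _ (Or.inl (by group))
  · exact key _ (Or.inr conj_sq.1)
  · exact key _ (Or.inr conj_sq.2)

instance : sqX.Normal := sqX_normal

theorem card_sqX : Finite sqX ∧ Nat.card sqX ≤ 2 := by
  have h : (eA 1 ^ 2) ^ 2 = 1 := by rw [← pow_mul]; exact x_pow_four
  have hord : IsOfFinOrder (eA 1 ^ 2) := isOfFinOrder_iff_pow_eq_one.2 ⟨2, by norm_num, h⟩
  refine ⟨hord.finite_zpowers.to_subtype, ?_⟩
  rw [sqX, Nat.card_zpowers]
  exact orderOf_le_of_pow_eq_one (by norm_num) h

/-- The quotient. -/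
abbrev Bar : Type := Abs ⧸ sqX

/-- The quotient map. -/
def toBar : Abs →* Bar := QuotientGroup.mk' sqX

/-- The letters `1, ..., 4` are `x, y, y⁻¹, z`. -/
def eQ : ℕ → Bar
  | 1 => toBar (eA 1)
  | 2 => toBar (eA 3)
  | 3 => toBar (eA 4)
  | 4 => toBar (eA 5)
  | _ => 1

/-- Translation of the letters. -/
def tr (l : ℕ) : ℕ := [0, 1, 1, 2, 3, 4].getD l 0

theorem eQ_sq : eQ 1 * eQ 1 = 1 := by
  show toBar (eA 1) * toBar (eA 1) = 1
  rw [← map_mul, ← pow_two]
  exact (QuotientGroup.eq_one_iff _).2 (Subgroup.mem_zpowers _)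

theorem eQ_tr (l : ℕ) : eQ (tr l) = toBar (eA l) := by
  rcases l with _ | _ | _ | _ | _ | _ | n
  · simp [tr, eQ, eA, free3]
  · rfl
  · show eQ 1 = _
    have e : eA 2 = (eA 1)⁻¹ := by simp [eA, free3]
    rw [e, map_inv]
    exact eq_inv_of_mul_eq_one_left eQ_sq
  · rfl
  · rfl
  · rfl
  · show (1 : Bar) = _
    simp [eA, free3]

theorem bar_rel {w : List ℕ} (hw : w ∈ absWords) : evalw eQ (w.map tr) = 1 := by
  rw [evalw, List.map_map, show (eQ ∘ tr) = fun l => toBar (eA l) from funext eQ_tr]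
  rw [← evalw, ← evalw_map, eA_rel w hw, map_one]

/-- Inverse values. -/
def gQ (l : ℕ) : Bar := (eQ l)⁻¹

theorem gQ_zero : gQ 0 = 1 := inv_one

theorem gQ_inv (l : ℕ) : gQ ([0, 1, 3, 2, 4].getD l 0) = (gQ l)⁻¹ := by
  rcases l with _ | _ | _ | _ | _ | n
  · simp [gQ, eQ]
  · show (eQ 1)⁻¹ = _
    simpa [gQ] using inv_eq_of_mul_eq_one_right eQ_sq
  · show (eQ 3)⁻¹ = _
    have e : eA 4 = (eA 3)⁻¹ := by simp [eA, free3]
    simp [gQ, eQ, e]
  · show (eQ 2)⁻¹ = _
    have e : eA 4 = (eA 3)⁻¹ := by simp [eA, free3]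
    simp [gQ, eQ, e]
  · show (eQ 4)⁻¹ = _
    have h := bar_rel (w := [5, 5]) (by decide)
    simp [evalw, tr] at h
    simpa [gQ] using inv_eq_of_mul_eq_one_right h
  · simp [gQ, eQ]

theorem gQ_inv3 (l : ℕ) : gQ ([0, 1, 3, 2].getD l 0) = (gQ l)⁻¹ ∨ l = 4 := by
  rcases Nat.lt_trichotomy l 4 with h | h | h
  · left
    rw [← gQ_inv l]
    interval_cases l <;> rfl
  · exact Or.inr h
  · left
    rw [List.getD_eq_default _ _ (by simp; omega), gQ_zero]
    obtain ⟨m, rfl⟩ : ∃ m, l = m + 5 := ⟨l - 5, by omega⟩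
    simp [gQ, eQ]

/-- The letters without `z`. -/
def gU (l : ℕ) : Bar := if l = 4 then 1 else gQ l

theorem gU_inv (l : ℕ) : gU ([0, 1, 3, 2].getD l 0) = (gU l)⁻¹ := by
  rcases gQ_inv3 l with h | rfl
  · by_cases hl : l = 4
    · subst hl; simp [gU, gQ_zero]
    · rw [gU, gU, if_neg hl, ← h, if_neg]
      rcases l with _ | _ | _ | _ | n <;> simp
  · simp [gU, gQ_zero]

theorem gU_eq {w : List ℕ} (h : ∀ l ∈ w, l ≠ 4) : pval gU w = pval gQ w := by
  induction w with
  | nil => rfl
  | cons l w ih =>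
    rw [pval, pval, ih fun m hm => h m (List.mem_cons_of_mem _ hm), gU,
      if_neg (h l List.mem_cons_self)]

/-- The relators without `z`. -/
def uWords : List (List ℕ) := relB.words

theorem q_rel {w : List ℕ} (hw : w ∈ [1, 1] :: (absWords.map (List.map tr))) : pval gQ w = 1 := by
  refine (pval_eq_one_iff eQ w).2 ?_
  rcases List.mem_cons.1 hw with rfl | hw
  · simpa [evalw] using eQ_sq
  · obtain ⟨u, hu, rfl⟩ := List.mem_map.1 hw
    exact bar_rel hu

theorem u_rel {w : List ℕ} (hw : w ∈ uWords) : pval gU w = 1 := by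
  obtain ⟨h1, h2⟩ := (by decide +kernel : ∀ w ∈ uWords,
    w ∈ [1, 1] :: (absWords.map (List.map tr)) ∧ ∀ l ∈ w, l ≠ 4) w hw
  rw [gU_eq h2, q_rel h1]

theorem derive {R : RelData} (hR : R.Valid) (hi : R.invl = [0, 1, 3, 2])
    (hw : ∀ u ∈ R.words, pval gU u = 1) : pval gU R.target = 1 :=
  RelData.sound hR gU (if_neg (by norm_num)) (fun l => by
    show gU (R.invl.getD l 0) = _
    rw [hi]
    exact gU_inv l) hw

theorem w5_rel : ∀ u ∈ relT5.words, pval gU u = 1 := by
  intro u hu
  rcases (by decide +kernel : ∀ u ∈ relT5.words, u ∈ uWords ∨ u = relW5.target) u hu with h | rfl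
  · exact u_rel h
  · exact derive relW5_valid rfl fun u hu =>
      u_rel ((by decide +kernel : ∀ u ∈ relW5.words, u ∈ uWords) u hu)

theorem w11_rel : ∀ u ∈ relT11.words, pval gU u = 1 := by
  intro u hu
  rcases (by decide +kernel : ∀ u ∈ relT11.words, u ∈ relT5.words ∨ u = relW11.target) u hu
    with h | rfl
  · exact w5_rel u h
  · exact derive relW11_valid rfl fun u hu =>
      w5_rel u ((by decide +kernel : ∀ u ∈ relW11.words, u ∈ relT5.words) u hu)

/-- All derived words. -/
def knownU : List (List ℕ) :=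
  uWords ++ [relB.target, relE1.target, relE2.target, relT5.target, relT11.target, relF1.target,
    relF2.target, relD0.target]

theorem known_rel : ∀ u ∈ knownU, pval gU u = 1 := by
  intro u hu
  rcases List.mem_append.1 hu with h | h
  · exact u_rel h
  · simp only [List.mem_cons, List.not_mem_nil, or_false] at h
    rcases h with rfl | rfl | rfl | rfl | rfl | rfl | rfl | rfl
    · exact derive relB_valid rfl fun u hu =>
        u_rel ((by decide +kernel : ∀ u ∈ relB.words, u ∈ uWords) u hu)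
    · exact derive relE1_valid rfl fun u hu =>
        u_rel ((by decide +kernel : ∀ u ∈ relE1.words, u ∈ uWords) u hu)
    · exact derive relE2_valid rfl fun u hu =>
        u_rel ((by decide +kernel : ∀ u ∈ relE2.words, u ∈ uWords) u hu)
    · exact derive relT5_valid rfl w5_rel
    · exact derive relT11_valid rfl w11_rel
    · exact derive relF1_valid rfl fun u hu =>
        u_rel ((by decide +kernel : ∀ u ∈ relF1.words, u ∈ uWords) u hu)
    · exact derive relF2_valid rfl fun u hu =>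
        u_rel ((by decide +kernel : ∀ u ∈ relF2.words, u ∈ uWords) u hu)
    · exact derive relD0_valid rfl fun u hu =>
        w11_rel u ((by decide +kernel : ∀ u ∈ relD0.words, u ∈ relT11.words) u hu)

theorem pval_mem_closure {G : Type*} [Group G] (g : ℕ → G) (L : List ℕ) :
    ∀ u : List ℕ, (∀ l ∈ u, l ∈ L) → pval g u ∈ Subgroup.closure (g '' {l | l ∈ L}) := by
  intro u
  induction u with
  | nil => intro _; exact Subgroup.one_mem _
  | cons l ls ih =>
    intro h
    exact Subgroup.mul_mem _ (ih fun m hm => h m (List.mem_cons_of_mem _ hm))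
      (Subgroup.subset_closure ⟨l, h l List.mem_cons_self, rfl⟩)

/-- The letters `y, y⁻¹, b, d` of the subgroup of index 100. -/
def emb : List (List ℕ) := [[], [2], [3], [1, 2, 2, 2, 1], [1, 2, 1, 2, 1, 2, 1, 2]]

/-- Their values. -/
def gH : ℕ → Bar := subst gU emb

theorem gH_inv (l : ℕ) : gH ([0, 2, 1, 3, 4].getD l 0) = (gH l)⁻¹ := by
  refine subst_inv gU emb [0, 2, 1, 3, 4] rfl rfl (fun l hl => ?_) l
  rcases (by decide +kernel : ∀ l < emb.length,
      emb.getD l [] ++ emb.getD ([0, 2, 1, 3, 4].getD l 0) [] ∈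
        [[], [2, 3], [3, 2]] ++ knownU) l hl |> List.mem_append.1 with h | h
  · simp only [List.mem_cons, List.not_mem_nil, or_false] at h
    rcases h with h | h | h <;> rw [h]
    · rfl
    · show (1 * gU 3) * gU 2 = 1
      rw [one_mul, show gU 3 = (gU 2)⁻¹ from gU_inv 2, inv_mul_cancel]
    · show (1 * gU 2) * gU 3 = 1
      rw [one_mul, show gU 3 = (gU 2)⁻¹ from gU_inv 2, mul_inv_cancel]
  · exact known_rel _ h

theorem h_rel {u : List ℕ} (hu : u ∈ boundH.words) : pval gH u = 1 := by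
  rw [gH, pval_subst]
  exact known_rel _ ((by decide +kernel : ∀ u ∈ boundH.words,
    (u.flatMap fun l => emb.getD l []) ∈ knownU) u hu)

theorem card_barU : Finite (Subgroup.closure (gU '' {l | l ∈ boundU.letters})) ∧
    Nat.card (Subgroup.closure (gU '' {l | l ∈ boundU.letters})) ≤ 100 * (63 * (20 * 6)) := by
  have h1 : gH 1 ^ 6 = 1 := by
    have := h_rel (u := [1, 1, 1, 1, 1, 1]) (by decide +kernel)
    simpa [pval, pow_succ, mul_assoc] using this
  have hord : IsOfFinOrder (gH 1) := isOfFinOrder_iff_pow_eq_one.2 ⟨6, by norm_num, h1⟩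
  haveI : Finite (Subgroup.zpowers (gH 1)) := hord.finite_zpowers.to_subtype
  have h0 : gH 0 = 1 := rfl
  let gV : ℕ → Bar := fun l => if l = 4 then 1 else gH l
  have gV_inv : ∀ l, gV (boundV.inv l) = (gV l)⁻¹ := by
    intro l
    show gV ([0, 2, 1, 3].getD l 0) = _
    rcases l with _ | _ | _ | _ | _ | n
    · simp [gV, h0]
    · exact gH_inv 1
    · exact gH_inv 2
    · exact gH_inv 3
    · simp [gV, h0]
    · have := gH_inv (n + 5)
      simp [gV, h0] at this ⊢
      exact this
  have gV_eq : ∀ u : List ℕ, (∀ l ∈ u, l ≠ 4) → pval gV u = pval gH u := by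
    intro u h
    induction u with
    | nil => rfl
    | cons l w ih =>
      rw [pval, pval, ih fun m hm => h m (List.mem_cons_of_mem _ hm)]
      simp [gV, h l List.mem_cons_self]
  have hV := BoundData.card_closure_le boundV_valid gV (by simp [gV, h0]) gV_inv
    (fun u hu => by
      obtain ⟨a, b⟩ := (by decide +kernel : ∀ u ∈ boundV.words,
        u ∈ boundH.words ∧ ∀ l ∈ u, l ≠ 4) u hu
      rw [gV_eq u b, h_rel a])
    (Subgroup.zpowers (gH 1)) (fun u hu => by
      obtain rfl : u = [1] := (by decide +kernel : ∀ u ∈ boundV.subs, u = [1]) u hu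
      simp [pval, gV]) 6 (by rw [Nat.card_zpowers]; exact orderOf_le_of_pow_eq_one (by norm_num) h1)
  haveI := hV.1
  have hH := BoundData.card_closure_le boundH_valid gH h0 gH_inv (fun u hu => h_rel hu)
    (Subgroup.closure (gV '' {l | l ∈ boundV.letters})) (fun u hu => by
      obtain ⟨a, b⟩ := (by decide +kernel : ∀ u ∈ boundH.subs,
        (∀ l ∈ u, l ∈ boundV.letters) ∧ ∀ l ∈ u, l ≠ 4) u hu
      rw [← gV_eq u b]
      exact pval_mem_closure gV _ u a) _ hV.2
  haveI := hH.1
  exact BoundData.card_closure_le boundU_valid gU (if_neg (by norm_num)) gU_inv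
    (fun u hu => u_rel ((by decide +kernel : ∀ u ∈ boundU.words, u ∈ uWords) u hu))
    (Subgroup.closure (gH '' {l | l ∈ boundH.letters})) (fun u hu => by
      obtain ⟨v, hv, e⟩ := (by decide +kernel : ∀ u ∈ boundU.subs,
        ∃ v ∈ [[1], [3], [4]], (v.flatMap fun l => emb.getD l []) = u) u hu
      rw [← e, ← pval_subst]
      exact pval_mem_closure gH _ v ((by decide +kernel : ∀ v ∈ [[1], [3], [4]],
        ∀ l ∈ v, l ∈ boundH.letters) v hv)) _ hH.2

theorem card_abs : Finite Abs ∧ Nat.card Abs ≤ 532224000 := by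
  haveI := card_barU.1
  have hQ := BoundData.card_closure_le boundQ_valid gQ gQ_zero gQ_inv (fun u hu => by
      rcases (by decide +kernel : ∀ u ∈ boundQ.words,
          (u ∈ knownU ∧ ∀ l ∈ u, l ≠ 4) ∨ u ∈ absWords.map (List.map tr) ∨
          u ++ [1, 1] ∈ absWords.map (List.map tr)) u hu with ⟨a, b⟩ | h | h
      · rw [← gU_eq b, known_rel u a]
      · exact q_rel (List.mem_cons_of_mem _ h)
      · have e := q_rel (List.mem_cons_of_mem _ h)
        rwa [pval_append, q_rel List.mem_cons_self, one_mul] at e)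
    (Subgroup.closure (gU '' {l | l ∈ boundU.letters})) (fun u hu => by
      obtain ⟨a, b⟩ := (by decide +kernel : ∀ u ∈ boundQ.subs,
        (∀ l ∈ u, l ∈ boundU.letters) ∧ ∀ l ∈ u, l ≠ 4) u hu
      rw [← gU_eq b]
      exact pval_mem_closure gU _ u a) _ card_barU.2
  have htop : Subgroup.closure (gQ '' {l | l ∈ boundQ.letters}) = ⊤ := by
    have h : (⊤ : Subgroup Bar) = (⊤ : Subgroup Abs).map toBar := by
      rw [← MonoidHom.range_eq_map, MonoidHom.range_eq_top.2 (show Function.Surjective toBar from QuotientGroup.mk'_surjective _)]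
    rw [eq_top_iff, h, ← closure_gens, MonoidHom.map_closure, Subgroup.closure_le]
    have hm : ∀ l ∈ boundQ.letters, eQ l ∈ Subgroup.closure (gQ '' {l | l ∈ boundQ.letters}) :=
      fun l hl => by
        have := Subgroup.inv_mem _ (Subgroup.subset_closure (Set.mem_image_of_mem gQ
          (show l ∈ {l | l ∈ boundQ.letters} from hl)))
        simpa [gQ] using this
    rintro _ ⟨a, ha, rfl⟩
    simp only [Set.mem_insert_iff, Set.mem_singleton_iff] at ha
    rcases ha with rfl | rfl | rfl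
    · exact hm 1 (by decide +kernel)
    · exact hm 2 (by decide +kernel)
    · exact hm 4 (by decide +kernel)
  rw [htop] at hQ
  haveI : Finite Bar := @Finite.of_equiv _ _ hQ.1 Subgroup.topEquiv.toEquiv
  haveI := card_sqX.1
  haveI : Finite Abs := Finite.of_subgroup_quotient sqX
  refine ⟨inferInstance, ?_⟩
  rw [Subgroup.card_eq_card_quotient_mul_card_subgroup sqX]
  have hb : Nat.card Bar ≤ 352 * (100 * (63 * (20 * 6))) := by
    rw [← Nat.card_congr (Subgroup.topEquiv (G := Bar)).toEquiv]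
    exact hQ.2
  calc Nat.card Bar * Nat.card sqX ≤ (352 * (100 * (63 * (20 * 6)))) * 2 :=
        Nat.mul_le_mul hb card_sqX.2
    _ = 532224000 := by norm_num

end Cfsg.Agent.HNCover
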